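import Groth.Agent.NodalLib.Alg
import Groth.Agent.NodeFactLib.Basic
import Mathlib.RingTheory.Polynomial.ScaleRoots

/-!
# Frobenius and fractions at a node

Integral fractions `a / s` over the ring of an ordinary double point in characteristic `p`:
`a/s` lies in the ring as soon as its `p`-th power does, and modulo the ring every fraction is
congruent to the `p`-th power of a multiple of itself.
-/

set_option autoImplicit false
universe u

open scoped nonZeroDivisors
open Polynomial

noncomputable section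

namespace NodeFrobLib

/-- `p`-th powers and integral fractions. -/
def FrobNormal (p : ℕ) (A : Type u) [CommRing A] : Prop :=
  ∀ a s : A, s ∈ A⁰ → (∃ P : A[X], P.Monic ∧ (P.scaleRoots s).eval a = 0) →
    (s ^ p ∣ a ^ p → s ∣ a) ∧ ∃ α : A, s ^ p ∣ a * s ^ (p - 1) - α ^ p * a ^ p

/-- An integral fraction is regular in an integrally closed domain. -/
theorem dvd_of_integral {A D : Type u} [CommRing A] [CommRing D] [IsDomain D] [IsIntegrallyClosed D]
    (f : A →+* D) {a s : A} (hs : f s ≠ 0) (P : A[X]) (hP : P.Monic)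
    (h : (P.scaleRoots s).eval a = 0) : f s ∣ f a := by
  let L := FractionRing D
  let g : A →+* L := (algebraMap D L).comp f
  have hgs : g s ≠ 0 := fun e => hs ((IsFractionRing.injective D L) (e.trans (map_zero _).symm))
  set q : L := g a / g s with hq
  have h1 : eval₂ g (g s * q) (P.scaleRoots s) = 0 := by
    rw [hq, mul_div_cancel₀ _ hgs, eval₂_at_apply, h, map_zero]
  rw [scaleRoots_eval₂_mul] at h1
  have h2 : eval₂ g q P = 0 := (mul_eq_zero.1 h1).resolve_left (pow_ne_zero _ hgs)
  have hint : IsIntegral D q := ⟨P.map f, hP.map f, by rw [eval₂_map]; exact h2⟩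
  obtain ⟨d, hd⟩ := IsIntegrallyClosed.isIntegral_iff.1 hint
  refine ⟨d, IsFractionRing.injective D L ?_⟩
  rw [map_mul, hd, hq]
  exact (mul_div_cancel₀ (g a) hgs).symm

theorem frobNormal_of_domain (p : ℕ) [Fact p.Prime] (A : Type u) [CommRing A] [IsDomain A]
    [IsIntegrallyClosed A] : FrobNormal p A := fun a s hs ⟨P, hP, h⟩ => by
  have hd : s ∣ a := dvd_of_integral (RingHom.id A) (nonZeroDivisors.ne_zero hs) P hP h
  refine ⟨fun _ => hd, 0, ?_⟩
  obtain ⟨p', hp'⟩ := Nat.exists_eq_succ_of_ne_zero (Fact.out : p.Prime).ne_zero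
  rw [zero_pow (Fact.out : p.Prime).ne_zero, zero_mul, sub_zero, hp', Nat.succ_sub_one, pow_succ']
  exact mul_dvd_mul_right hd _

variable {K : Type u} [Field K]

open NodalLib (xy)

/-- The two branches. -/
def br (i : Fin 2) : NodalLib.R K →+* PowerSeries K :=
  Ideal.Quotient.lift _ (NodeFactLib.axis i) fun F hF => by
    obtain ⟨G, rfl⟩ := Ideal.mem_span_singleton.1 hF
    have : NodeFactLib.axis i (xy K) = 0 := by
      fin_cases i
      · exact (map_mul _ _ _).trans (mul_eq_zero_of_right _ (NodeFactLib.axis_X_ne (by decide)))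
      · exact (map_mul _ _ _).trans (mul_eq_zero_of_left (NodeFactLib.axis_X_ne (by decide)) _)
    rw [map_mul, this, zero_mul]

theorem br_mk (i : Fin 2) (F : MvPowerSeries (Fin 2) K) :
    br i (Ideal.Quotient.mk _ F) = NodeFactLib.axis i F := rfl

theorem br_ext {a b : NodalLib.R K} (h : ∀ i, br i a = br i b) : a = b := by
  obtain ⟨F, rfl⟩ := Ideal.Quotient.mk_surjective a
  obtain ⟨G, rfl⟩ := Ideal.Quotient.mk_surjective b
  rw [Ideal.Quotient.eq, Ideal.mem_span_singleton, NodalLib.xy_dvd_iff]
  have h0 : ∀ i n, MvPowerSeries.coeff (Finsupp.single i n) (F - G) = 0 := fun i n => by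
    rw [← NodeFactLib.coeff_axis, map_sub, ← br_mk, ← br_mk, h i, sub_self, map_zero]
  constructor <;> rw [MvPowerSeries.X_dvd_iff] <;> intro m hm
  · have : m = Finsupp.single 1 (m 1) := by
      ext j; fin_cases j
      · simpa using hm
      · simp
    rw [this]; exact h0 1 _
  · have : m = Finsupp.single 0 (m 0) := by
      ext j; fin_cases j
      · simp
      · simpa using hm
    rw [this]; exact h0 0 _

theorem const_br (r : NodalLib.R K) :
    PowerSeries.constantCoeff (br 0 r) = PowerSeries.constantCoeff (br 1 r) := by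
  obtain ⟨F, rfl⟩ := Ideal.Quotient.mk_surjective r
  rw [br_mk, br_mk, ← PowerSeries.coeff_zero_eq_constantCoeff_apply,
    ← PowerSeries.coeff_zero_eq_constantCoeff_apply, NodeFactLib.coeff_axis, NodeFactLib.coeff_axis,
    Finsupp.single_zero, Finsupp.single_zero]

theorem exists_of_const (q : Fin 2 → PowerSeries K)
    (h : PowerSeries.constantCoeff (q 0) = PowerSeries.constantCoeff (q 1)) :
    ∃ r : NodalLib.R K, ∀ i, br i r = q i := by
  classical
  let F : MvPowerSeries (Fin 2) K := fun e =>
    if e 1 = 0 then PowerSeries.coeff (e 0) (q 0) else if e 0 = 0 then PowerSeries.coeff (e 1) (q 1) else 0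
  refine ⟨Ideal.Quotient.mk _ F, fun i => ?_⟩
  refine PowerSeries.ext fun n => ?_
  rw [br_mk, NodeFactLib.coeff_axis]
  change F (Finsupp.single i n) = _
  fin_cases i
  · simp [F]
  · rcases n with _ | n
    · simpa [F, PowerSeries.coeff_zero_eq_constantCoeff_apply] using h
    · simp [F]

theorem br_ne_zero {r : NodalLib.R K} (hr : r ∈ (NodalLib.R K)⁰) (i : Fin 2) : br i r ≠ 0 := by
  intro h
  set x : NodalLib.R K := Ideal.Quotient.mk _ (MvPowerSeries.X i) with hx
  have h1 : r * x = 0 := br_ext fun j => by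
    rw [map_mul, map_zero]
    by_cases hj : j = i
    · subst hj; rw [h, zero_mul]
    · rw [hx, br_mk, NodeFactLib.axis_X_ne hj, mul_zero]
  have h2 : x = 0 := mem_nonZeroDivisors_iff_right.1 hr _ (by rw [mul_comm]; exact h1)
  have h3 := congrArg (br i) h2
  rw [hx, br_mk, NodeFactLib.axis_X_self, map_zero] at h3
  exact PowerSeries.X_ne_zero h3

theorem frobNormal_of_node (p : ℕ) [Fact p.Prime] [CharP K p] [IsAlgClosed K]
    (A : Type u) [CommRing A] (ι : A →+* NodalLib.R K)
    (hdvd : ∀ a s : A, ι s ∣ ι a → s ∣ a) (hreg : ∀ s ∈ A⁰, ι s ∈ (NodalLib.R K)⁰)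
    (hκ : Function.Surjective fun a : A => PowerSeries.constantCoeff (br 0 (ι a))) :
    FrobNormal p A := by
  intro a s hs ⟨P, hP, h⟩
  have hp := (Fact.out : p.Prime)
  have hne : ∀ i, br i (ι s) ≠ 0 := fun i => br_ne_zero (hreg s hs) i
  have hq : ∀ i, ∃ q, br i (ι a) = br i (ι s) * q := fun i =>
    dvd_of_integral ((br i).comp ι) (hne i) P hP h
  choose q hq using hq
  constructor
  · rintro ⟨c, hc⟩
    have hqp : ∀ i, q i ^ p = br i (ι c) := fun i => mul_left_cancel₀ (pow_ne_zero p (hne i)) (by
      rw [← mul_pow, ← hq i, ← map_pow, ← map_pow, hc, map_mul, map_mul, map_pow, map_pow])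
    have h0 : PowerSeries.constantCoeff (q 0) = PowerSeries.constantCoeff (q 1) := by
      refine frobenius_inj K p ?_
      simp only [frobenius_def, ← map_pow, hqp]
      exact const_br _
    obtain ⟨r, hr⟩ := exists_of_const q h0
    exact hdvd _ _ ⟨r, br_ext fun i => by rw [map_mul, hr, hq i]⟩
  · set d : K := PowerSeries.constantCoeff (q 0) - PowerSeries.constantCoeff (q 1) with hd
    obtain ⟨t, ht⟩ := IsAlgClosed.exists_pow_nat_eq (d / d ^ p) hp.pos
    obtain ⟨α, hα⟩ := hκ t
    refine ⟨α, hdvd _ _ ?_⟩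
    let q' : Fin 2 → PowerSeries K := fun i => q i - br i (ι α) ^ p * q i ^ p
    have hα1 : PowerSeries.constantCoeff (br 1 (ι α)) = t := (const_br _).symm.trans hα
    have hdd : d - t ^ p * d ^ p = 0 := by
      by_cases h0 : d = 0
      · rw [h0, zero_pow hp.ne_zero, mul_zero, sub_zero]
      · rw [ht, div_mul_cancel₀ _ (pow_ne_zero p h0), sub_self]
    have h0 : PowerSeries.constantCoeff (q' 0) = PowerSeries.constantCoeff (q' 1) := by
      simp only [q', map_sub, map_mul, map_pow]
      dsimp only at hα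
      rw [hα, hα1]
      rw [hd, sub_pow_char] at hdd
      linear_combination hdd
    obtain ⟨r, hr⟩ := exists_of_const q' h0
    refine ⟨r, br_ext fun i => ?_⟩
    obtain ⟨p', hp'⟩ := Nat.exists_eq_succ_of_ne_zero hp.ne_zero
    simp only [map_sub, map_mul, map_pow, hr, q', hq i, hp', Nat.succ_sub_one, Nat.succ_eq_add_one]
    ring

end NodeFrobLib
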