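import Groth.Agent.NodeFrobLib.Alg
import Groth.Agent.FinPicLib.Topo
import Groth.Agent.QCohLib.Push
import Mathlib.AlgebraicGeometry.Morphisms.Finite
import Mathlib.RingTheory.Flat.TorsionFree

/-!
# Sections of a finite birational cover modulo the base, and Frobenius
-/

set_option autoImplicit false
universe u

open CategoryTheory AlgebraicGeometry TopologicalSpace Opposite
open scoped nonZeroDivisors

noncomputable section

namespace NodeFrobLib

variable {C C' : Scheme.{u}} (π : C' ⟶ C) (U : C.Opens)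

theorem bij_app (hπU : IsIso (π ∣_ U)) {W : C.Opens} (hW : W ≤ U) :
    Function.Bijective (π.app W) := by
  haveI := hπU
  have e : U.ι ''ᵁ (U.ι ⁻¹ᵁ W) = W := by
    rw [Scheme.Hom.image_preimage_eq_opensRange_inf, Scheme.Opens.opensRange_ι, inf_eq_right.2 hW]
  have h : IsIso (π.app (U.ι ''ᵁ (U.ι ⁻¹ᵁ W))) := by
    have h2 : IsIso ((π ∣_ U).app (U.ι ⁻¹ᵁ W)) := inferInstance
    rw [morphismRestrict_app] at h2
    exact @IsIso.of_isIso_comp_right _ _ _ _ _ _ _ (Functor.map_isIso C'.presheaf _) h2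
  rw [e] at h
  exact ConcreteCategory.bijective_of_isIso (π.app W)

theorem res_res {X : Scheme.{u}} {V W T : X.Opens} (h : W ≤ V) (h' : T ≤ W) (s : Γ(X, V)) :
    X.presheaf.map (homOfLE h').op (X.presheaf.map (homOfLE h).op s) =
      X.presheaf.map (homOfLE (h'.trans h)).op s :=
  (congr($(X.presheaf.map_comp (homOfLE h).op (homOfLE h').op) s)).symm

theorem eq_zero_of_res {X : Scheme.{u}} [IsReduced X] {V : X.Opens} (U : X.Opens) (hU : Dense (U : Set X))
    (t : Γ(X, V)) (h : X.presheaf.map (homOfLE (inf_le_left : V ⊓ U ≤ V)).op t = 0) : t = 0 := by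
  refine eq_zero_of_basicOpen_eq_bot t (eq_bot_iff.2 fun z hz => ?_)
  obtain ⟨w, hw, hwU⟩ := hU.inter_open_nonempty (X.basicOpen t) (X.basicOpen t).isOpen ⟨z, hz⟩
  have : w ∈ X.basicOpen (X.presheaf.map (homOfLE (inf_le_left : V ⊓ U ≤ V)).op t) := by
    rw [Scheme.basicOpen_res]
    exact ⟨⟨X.basicOpen_le t hw, hwU⟩, hw⟩
  rw [h, Scheme.basicOpen_zero] at this
  exact this.elim

variable [IsReduced C] [IsReduced C'] (hU : Dense (U : Set C))
  (hU' : Dense ((π ⁻¹ᵁ U : C'.Opens) : Set C')) (hπU : IsIso (π ∣_ U))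

include hU hπU in
theorem app_injective (W : C.Opens) : Function.Injective (π.app W) := by
  refine (injective_iff_map_eq_zero (π.app W).hom).2 fun t ht => eq_zero_of_res U hU t ?_
  apply (bij_app π U hπU (inf_le_right : W ⊓ U ≤ U)).1
  rw [QCohLib.app_res, ht, map_zero, map_zero]

/-- Sections which are non-zero-divisors in every stalk. -/
def Reg {V : C.Opens} (s : Γ(C, V)) : Prop :=
  ∀ (x : C) (hx : x ∈ V), C.presheaf.germ V x hx s ∈ (C.presheaf.stalk x)⁰

theorem Reg.res {V W : C.Opens} {s : Γ(C, V)} (hs : Reg s) (h : W ≤ V) :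
    Reg (C.presheaf.map (homOfLE h).op s) := fun x hx => by
  rw [TopCat.Presheaf.germ_res_apply]; exact hs x (h hx)

include hU' hπU in
theorem regular_app {W : C.Opens} {s : Γ(C, W)} (hs : Reg s) (t : Γ(C', π ⁻¹ᵁ W))
    (h : π.app W s * t = 0) : t = 0 := by
  refine eq_zero_of_res (π ⁻¹ᵁ U) hU' t ?_
  change C'.presheaf.map (homOfLE (π.preimage_mono (inf_le_left : W ⊓ U ≤ W))).op t = 0
  obtain ⟨t0, ht0⟩ := (bij_app π U hπU (inf_le_right : W ⊓ U ≤ U)).2
    (C'.presheaf.map (homOfLE (π.preimage_mono (inf_le_left : W ⊓ U ≤ W))).op t)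
  have h1 : C.presheaf.map (homOfLE (inf_le_left : W ⊓ U ≤ W)).op s * t0 = 0 := by
    apply (bij_app π U hπU (inf_le_right : W ⊓ U ≤ U)).1
    rw [map_mul, QCohLib.app_res, ht0, ← map_mul, h, map_zero, map_zero]
  have h2 : t0 = 0 := by
    refine TopCat.Presheaf.section_ext C.sheaf (W ⊓ U) t0 0 fun x hx => ?_
    rw [map_zero]
    refine mem_nonZeroDivisors_iff_right.1 (hs.res inf_le_left x hx) _ ?_
    change C.presheaf.germ _ x hx t0 * C.presheaf.germ _ x hx _ = 0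
    rw [← map_mul, mul_comm, h1, map_zero]
  rw [← ht0, h2, map_zero]

variable [IsFinite π] [IsLocallyNoetherian C] [NoetherianSpace C]

include hU hπU in
theorem exists_fraction {V : C.Opens} (hV : IsAffineOpen V) (y : Γ(C', π ⁻¹ᵁ V)) :
    ∃ (s a : Γ(C, V)) (P : Polynomial Γ(C, V)), Reg s ∧ π.app V a = π.app V s * y ∧
      P.Monic ∧ (P.scaleRoots s).eval a = 0 := by
  classical
  haveI : IsNoetherianRing Γ(C, V) := IsLocallyNoetherian.component_noetherian ⟨V, hV⟩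
  haveI : _root_.IsReduced Γ(C, V) := inferInstance
  obtain ⟨I, hI⟩ := (PrimeSpectrum.isClosed_iff_zeroLocus_ideal _).1
    (hV.fromSpec ⁻¹ᵁ U).isOpen.isClosed_compl
  have hfin : (minimalPrimes Γ(C, V)).Finite := minimalPrimes.finite_of_isNoetherianRing _
  obtain ⟨s0, hs0I, hs0⟩ : ∃ s0 ∈ I, ∀ q ∈ minimalPrimes Γ(C, V), s0 ∉ q := by
    by_contra hcon
    push Not at hcon
    have hsub : (I : Set Γ(C, V)) ⊆ ⋃ q ∈ (hfin.toFinset : Set (Ideal Γ(C, V))), (q : Set Γ(C, V)) := fun s hs => by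
      obtain ⟨q, hq, hsq⟩ := hcon s hs
      exact Set.mem_iUnion₂.2 ⟨q, Finset.mem_coe.2 (hfin.mem_toFinset.2 hq), hsq⟩
    obtain ⟨q, hq, hle⟩ := (Ideal.subset_union_prime (f := id) ⊥ ⊥
      (fun q hq _ _ => (hfin.mem_toFinset.1 hq).1.1)).1 hsub
    rw [hfin.mem_toFinset] at hq
    haveI := hq.1.1
    let Q : PrimeSpectrum Γ(C, V) := ⟨q, hq.1.1⟩
    have hgen : FinPicLib.IsGen (hV.fromSpec Q) := fun z hz => by
      obtain ⟨Q', rfl⟩ : z ∈ Set.range hV.fromSpec := by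
        rw [hV.range_fromSpec]
        exact hz.mem_open V.isOpen (by rw [← hV.range_fromSpec]; exact ⟨Q, rfl⟩)
      have h1 : Q' ⤳ Q := hV.fromSpec.isOpenEmbedding.isInducing.specializes_iff.1 hz
      have h1' := (PrimeSpectrum.le_iff_specializes Q' Q).2 h1
      exact congrArg hV.fromSpec (PrimeSpectrum.ext (le_antisymm h1' (hq.2 ⟨Q'.isPrime, bot_le⟩ h1')))
    have hQU : hV.fromSpec Q ∈ U := FinPicLib.mem_of_dense hgen U.isOpen hU
    have : Q ∈ PrimeSpectrum.zeroLocus (I : Set Γ(C, V)) := hle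
    rw [← hI] at this
    exact this hQU
  have hs0reg : s0 ∈ Γ(C, V)⁰ := by
    rw [mem_nonZeroDivisors_iff_right]
    intro z hz
    have : z ∈ sInf (minimalPrimes Γ(C, V)) := Submodule.mem_sInf.2 fun q hq =>
      (hq.1.1.mem_or_mem (show z * s0 ∈ q by rw [hz]; exact q.zero_mem)).resolve_right (hs0 q hq)
    rw [minimalPrimes, Ideal.sInf_minimalPrimes] at this
    obtain ⟨n, hn⟩ := this
    exact IsReduced.eq_zero z ⟨n, hn⟩
  have hReg : ∀ n : ℕ, Reg (s0 ^ n) := fun n x hx => by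
    letI : Algebra Γ(C, V) (C.presheaf.stalk x) := TopCat.Presheaf.algebra_section_stalk C.presheaf ⟨x, hx⟩
    haveI := hV.isLocalization_stalk ⟨x, hx⟩
    haveI : Module.Flat Γ(C, V) (C.presheaf.stalk x) :=
      IsLocalization.flat _ (hV.primeIdealOf ⟨x, hx⟩).asIdeal.primeCompl
    rw [mem_nonZeroDivisors_iff_right]
    intro z hz
    refine Module.Flat.isSMulRegular_of_nonZeroDivisors (M := C.presheaf.stalk x)
      (pow_mem hs0reg n) (show s0 ^ n • z = s0 ^ n • (0 : C.presheaf.stalk x) from ?_)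
    rw [smul_zero]
    exact ((Algebra.smul_def _ _).trans (mul_comm _ _)).trans hz
  let D := C.basicOpen s0
  have hDU : D ≤ U := fun z hz => by
    obtain ⟨Q, rfl⟩ : z ∈ Set.range hV.fromSpec := by rw [hV.range_fromSpec]; exact C.basicOpen_le s0 hz
    have h1 : Q ∈ PrimeSpectrum.basicOpen s0 := by rw [← hV.fromSpec_preimage_basicOpen]; exact hz
    by_contra hn
    have h2 : Q ∈ PrimeSpectrum.zeroLocus (I : Set Γ(C, V)) := by rw [← hI]; exact hn
    exact h1 (h2 hs0I)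
  obtain ⟨a'', ha''⟩ := (bij_app π U hπU hDU).2
    (C'.presheaf.map (homOfLE (π.preimage_mono (C.basicOpen_le s0))).op y)
  haveI := hV.isLocalization_basicOpen s0
  obtain ⟨⟨a, ⟨_, m, rfl⟩⟩, ha⟩ := IsLocalization.surj (Submonoid.powers s0) a''
  change a'' * C.presheaf.map (homOfLE (C.basicOpen_le s0)).op (s0 ^ m) =
    C.presheaf.map (homOfLE (C.basicOpen_le s0)).op a at ha
  set t : Γ(C', π ⁻¹ᵁ V) := π.app V a - π.app V (s0 ^ m) * y with ht
  have ht0 : C'.presheaf.map (homOfLE (π.preimage_mono (C.basicOpen_le s0))).op t = 0 := by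
    rw [ht, map_sub, map_mul, sub_eq_zero, ← QCohLib.app_res π (C.basicOpen_le s0),
      ← QCohLib.app_res π (C.basicOpen_le s0), ← ha, map_mul, ← ha'',
      mul_comm]
  have hbt : π.app V s0 * t = 0 := by
    refine eq_zero_of_basicOpen_eq_bot _ (eq_bot_iff.2 fun z hz => ?_)
    rw [Scheme.basicOpen_mul] at hz
    have h1 : z ∈ π ⁻¹ᵁ D := by
      rw [Scheme.preimage_basicOpen]; exact hz.1
    have h2 : z ∈ C'.basicOpen (C'.presheaf.map (homOfLE (π.preimage_mono (C.basicOpen_le s0))).op t) := by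
      rw [Scheme.basicOpen_res]; exact ⟨h1, hz.2⟩
    rw [ht0, Scheme.basicOpen_zero] at h2
    exact h2.elim
  obtain ⟨P, hP, hPy⟩ := RingHom.Finite.to_isIntegral (π.finite_app V hV) y
  have h1 : π.app V (a * s0) = π.app V (s0 ^ (m + 1)) * y := by
    rw [ht] at hbt
    rw [← sub_eq_zero, pow_succ, map_mul, map_mul]
    linear_combination hbt
  refine ⟨s0 ^ (m + 1), a * s0, P, hReg _, h1, hP, app_injective π U hU hπU V ?_⟩
  rw [map_zero]
  exact (Polynomial.eval₂_at_apply (π.app V).hom _).symm.trans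
    ((congrArg (fun r => Polynomial.eval₂ (π.app V).hom r _) h1).trans
      (Polynomial.scaleRoots_eval₂_eq_zero (π.app V).hom hPy))

theorem frac_germ {V : C.Opens} {x : C} (hx : x ∈ V) {s a : Γ(C, V)} {P : Polynomial Γ(C, V)} (hP : P.Monic)
    (h : (P.scaleRoots s).eval a = 0) :
    ∃ Q : Polynomial (C.presheaf.stalk x), Q.Monic ∧
      (Q.scaleRoots (C.presheaf.germ V x hx s)).eval (C.presheaf.germ V x hx a) = 0 := by
  let g := (C.presheaf.germ V x hx).hom
  refine ⟨P.map g, hP.map g, ?_⟩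
  change ((P.map g).scaleRoots (g s)).eval (g a) = 0
  rw [← Polynomial.map_scaleRoots _ _ _ (by rw [hP.leadingCoeff, map_one]; exact one_ne_zero),
    Polynomial.eval_map, Polynomial.eval₂_at_apply, h, map_zero]

include hU hU' hπU in
/-- A section whose `p`-th power descends near `x` descends near `x`. -/
theorem local_inj {p : ℕ} {x : C} (hA : FrobNormal p (C.presheaf.stalk x)) {V : C.Opens} (hx : x ∈ V)
    (y : Γ(C', π ⁻¹ᵁ V)) (c : Γ(C, V)) (hc : y ^ p = π.app V c) :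
    ∃ (W : C.Opens) (i : W ≤ V), x ∈ W ∧ ∃ a : Γ(C, W),
      C'.presheaf.map (homOfLE (π.preimage_mono i)).op y = π.app W a := by
  obtain ⟨V₀, hV₀, hxV₀, hle⟩ := exists_isAffineOpen_mem_and_subset hx
  have hle : V₀ ≤ V := hle
  set y₀ := C'.presheaf.map (homOfLE (π.preimage_mono hle)).op y with hy₀
  set c₀ := C.presheaf.map (homOfLE hle).op c with hc₀
  have hc0 : y₀ ^ p = π.app V₀ c₀ := by rw [hy₀, hc₀, ← map_pow, hc, QCohLib.app_res]
  obtain ⟨s, a, P, hs, ha, hP, hPa⟩ := exists_fraction π U hU hπU hV₀ y₀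
  have h2 : a ^ p = s ^ p * c₀ := app_injective π U hU hπU V₀ (by
    rw [map_pow, ha, mul_pow, map_mul, map_pow, hc0])
  obtain ⟨c', hc'⟩ := (hA _ _ (hs x hxV₀) (frac_germ hxV₀ hP hPa)).1
    ⟨C.presheaf.germ V₀ x hxV₀ c₀, by rw [← map_pow, h2, map_mul, map_pow]⟩
  obtain ⟨W₁, hxW₁, c₁, rfl⟩ := TopCat.Presheaf.germ_exist C.presheaf c'
  have hx₁ : x ∈ V₀ ⊓ W₁ := ⟨hxV₀, hxW₁⟩
  have h3 : C.presheaf.germ (V₀ ⊓ W₁) x hx₁ (C.presheaf.map (homOfLE inf_le_left).op a) =
      C.presheaf.germ (V₀ ⊓ W₁) x hx₁ (C.presheaf.map (homOfLE inf_le_left).op s *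
        C.presheaf.map (homOfLE inf_le_right).op c₁) := by
    simp only [map_mul, TopCat.Presheaf.germ_res_apply]
    exact hc'
  obtain ⟨W, hxW, i, i', hW⟩ := TopCat.Presheaf.germ_eq C.presheaf x hx₁ hx₁ _ _ h3
  obtain rfl : i = i' := Subsingleton.elim _ _
  have hW0 : W ≤ V₀ := (leOfHom i).trans inf_le_left
  have hW1 : W ≤ W₁ := (leOfHom i).trans inf_le_right
  rw [map_mul] at hW
  have hiW : W ≤ V₀ ⊓ W₁ := leOfHom i
  obtain rfl : i = homOfLE hiW := Subsingleton.elim _ _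
  simp only [← ConcreteCategory.comp_apply, ← Functor.map_comp, ← op_comp, homOfLE_comp] at hW
  refine ⟨W, hW0.trans hle, hxW, C.presheaf.map (homOfLE hW1).op c₁, ?_⟩
  rw [← sub_eq_zero]
  refine regular_app π U hU' hπU (hs.res hW0) _ ?_
  have h4 : C'.presheaf.map (homOfLE (π.preimage_mono (hW0.trans hle))).op y =
      C'.presheaf.map (homOfLE (π.preimage_mono hW0)).op y₀ := by
    rw [hy₀, res_res]
  rw [mul_sub, h4, QCohLib.app_res π hW0 s, ← map_mul, ← ha, ← QCohLib.app_res π hW0 a,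
    ← QCohLib.app_res π hW0 s, ← map_mul, sub_eq_zero]
  exact congrArg (π.app W) hW

include hU hU' hπU in
/-- Near `x` every section is a `p`-th power up to a section which descends. -/
theorem local_surj {p : ℕ} [Fact p.Prime] {x : C} (hA : FrobNormal p (C.presheaf.stalk x)) {V : C.Opens}
    (hx : x ∈ V) (y : Γ(C', π ⁻¹ᵁ V)) :
    ∃ (W : C.Opens) (i : W ≤ V), x ∈ W ∧ ∃ (z : Γ(C', π ⁻¹ᵁ W)) (a : Γ(C, W)),
      z ^ p - C'.presheaf.map (homOfLE (π.preimage_mono i)).op y = π.app W a := by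
  obtain ⟨V₀, hV₀, hxV₀, hle⟩ := exists_isAffineOpen_mem_and_subset hx
  have hle : V₀ ≤ V := hle
  set y₀ := C'.presheaf.map (homOfLE (π.preimage_mono hle)).op y with hy₀
  obtain ⟨s, a, P, hs, ha, hP, hPa⟩ := exists_fraction π U hU hπU hV₀ y₀
  obtain ⟨α, c, hαc⟩ := (hA _ _ (hs x hxV₀) (frac_germ hxV₀ hP hPa)).2
  obtain ⟨W₁, hxW₁, α₁, rfl⟩ := TopCat.Presheaf.germ_exist C.presheaf α
  obtain ⟨W₂, hxW₂, c₂, rfl⟩ := TopCat.Presheaf.germ_exist C.presheaf c
  let V₁ : C.Opens := V₀ ⊓ W₁ ⊓ W₂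
  have hx₁ : x ∈ V₁ := ⟨⟨hxV₀, hxW₁⟩, hxW₂⟩
  let s₁ := C.presheaf.map (homOfLE (inf_le_left.trans inf_le_left : V₁ ≤ V₀)).op s
  let a₁ := C.presheaf.map (homOfLE (inf_le_left.trans inf_le_left : V₁ ≤ V₀)).op a
  let α' := C.presheaf.map (homOfLE (inf_le_left.trans inf_le_right : V₁ ≤ W₁)).op α₁
  let c' := C.presheaf.map (homOfLE (inf_le_right : V₁ ≤ W₂)).op c₂
  have h3 : C.presheaf.germ V₁ x hx₁ (a₁ * s₁ ^ (p - 1) - α' ^ p * a₁ ^ p) =
      C.presheaf.germ V₁ x hx₁ (s₁ ^ p * c') := by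
    simp only [s₁, a₁, α', c', map_sub, map_mul, map_pow, TopCat.Presheaf.germ_res_apply]
    exact hαc
  obtain ⟨W, hxW, i, i', hW⟩ := TopCat.Presheaf.germ_eq C.presheaf x hx₁ hx₁ _ _ h3
  obtain rfl : i = i' := Subsingleton.elim _ _
  have hW1 : W ≤ V₁ := leOfHom i
  have hW0 : W ≤ V₀ := hW1.trans (inf_le_left.trans inf_le_left)
  obtain rfl : i = homOfLE hW1 := Subsingleton.elim _ _
  simp only [map_sub, map_mul, map_pow, s₁, a₁, α', c', ← ConcreteCategory.comp_apply, ← Functor.map_comp,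
    ← op_comp, homOfLE_comp] at hW
  refine ⟨W, hW0.trans hle, hxW,
    π.app W (C.presheaf.map (homOfLE (hW1.trans (inf_le_left.trans inf_le_right))).op α₁) *
      C'.presheaf.map (homOfLE (π.preimage_mono (hW0.trans hle))).op y,
    - C.presheaf.map (homOfLE (hW1.trans inf_le_right)).op c₂, ?_⟩
  obtain ⟨p', hp'⟩ := Nat.exists_eq_succ_of_ne_zero (Fact.out : p.Prime).ne_zero
  have hW' := congrArg (π.app W) hW
  set yW := C'.presheaf.map (homOfLE (π.preimage_mono (hW0.trans hle))).op y with hyW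
  set sW := C.presheaf.map (homOfLE hW0).op s
  set aW := C.presheaf.map (homOfLE hW0).op a
  have haW : π.app W aW = π.app W sW * yW := by
    rw [QCohLib.app_res π hW0 a, ha, map_mul, ← QCohLib.app_res π hW0 s, hy₀, res_res]
  rw [← sub_eq_zero]
  have hsp : Reg (sW ^ p) := fun z hz => by
    rw [map_pow]; exact pow_mem (hs.res hW0 z hz) p
  refine regular_app π U hU' hπU hsp _ ?_
  simp only [map_sub, map_mul, map_pow, map_neg] at hW' ⊢
  change π.app W aW * π.app W sW ^ (p - 1) - _ * π.app W aW ^ p = π.app W sW ^ p * _ at hW'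
  rw [haW, hp', Nat.succ_sub_one] at hW'
  rw [hp']
  linear_combination (norm := (simp only [Nat.succ_eq_add_one, mul_pow, pow_succ]; ring_nf)) -hW'

end NodeFrobLib
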