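import Groth.Agent.NodeFrobLib.Sheaf

/-!
# Endomorphisms on the first cohomology of an acyclic direct image
-/

set_option autoImplicit false
universe u
open CategoryTheory CategoryTheory.Limits TopologicalSpace Opposite CategoryTheory.Abelian

noncomputable section

namespace NodeFrobLib

open QCohLib

variable {X Y : TopCat.{u}}

theorem delta0_natural {S : ShortComplex (AbSh X)} (hS : S.ShortExact) (Φ : S ⟶ S) (U : Opens X)
    (q : S.X₃.obj.obj (op U)) :
    delta0 hS U (Φ.τ₃.hom.app (op U) q) = hmap Φ.τ₁ 1 U (delta0 hS U q) := by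
  have h : h0.symm (Φ.τ₃.hom.app (op U) q) = (h0.symm q).comp (Ext.mk₀ Φ.τ₃) (add_zero 0) := by
    rw [AddEquiv.symm_apply_eq, h0_comp, AddEquiv.apply_symm_apply]
  change (h0.symm (Φ.τ₃.hom.app (op U) q)).comp hS.extClass (zero_add 1) =
    Ext.comp ((h0.symm q).comp hS.extClass (zero_add 1)) (Ext.mk₀ Φ.τ₁) (add_zero 1)
  rw [h, Ext.comp_assoc_of_second_deg_zero, ← ShortComplex.ShortExact.extClass_naturality hS hS Φ,
    Ext.comp_assoc_of_third_deg_zero]

/-- Bijectivity on `H¹` read off on an acyclic resolution. -/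
theorem bijective_hmap_iff_sections {S : ShortComplex (AbSh X)} (hS : S.ShortExact) (Φ : S ⟶ S)
    (U : Opens X) [Subsingleton (HU S.X₂ 1 U)] :
    Function.Bijective (hmap Φ.τ₁ 1 U) ↔
      (∀ q, (∃ t, S.g.hom.app (op U) t = Φ.τ₃.hom.app (op U) q) → ∃ t, S.g.hom.app (op U) t = q) ∧
      ∀ q, ∃ q' t, S.g.hom.app (op U) t = Φ.τ₃.hom.app (op U) q' - q := by
  have h0' := delta0_eq_zero_iff hS U
  constructor
  · refine fun h => ⟨fun q hq => (h0' q).1 (h.1 ?_), fun q => ?_⟩
    · rw [← delta0_natural, (h0' _).2 hq]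
      simp only [hmap, Ext.zero_comp]
    · obtain ⟨x, hx⟩ := h.2 (delta0 hS U q)
      obtain ⟨q', rfl⟩ := delta0_surjective hS U x
      rw [← delta0_natural, ← sub_eq_zero, ← map_sub, h0'] at hx
      exact ⟨q', hx⟩
  · rintro ⟨h1, h2⟩
    constructor
    · intro x x' hxx'
      rw [← sub_eq_zero] at hxx' ⊢
      rw [← hmap_sub] at hxx'
      obtain ⟨q, hq⟩ := delta0_surjective hS U (x - x')
      rw [← hq, ← delta0_natural, h0'] at hxx'
      rw [← hq, h0']
      exact h1 q hxx'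
    · intro x
      obtain ⟨q, rfl⟩ := delta0_surjective hS U x
      obtain ⟨q', ht⟩ := h2 q
      rw [← h0', map_sub, sub_eq_zero, delta0_natural] at ht
      exact ⟨_, ht⟩

/-- The first cohomology of an acyclic direct image, with an endomorphism. -/
theorem bijective_H_map_pf_iff (f : X ⟶ Y) {B : Set (Opens Y)} (hB : Opens.IsBasis B) (F : AbSh X)
    (hF : AcyclicAbove f B 0 F) (φ : F ⟶ F) :
    Function.Bijective (CategoryTheory.Sheaf.H.map ((pf f).map φ) 1) ↔
      Function.Bijective (CategoryTheory.Sheaf.H.map φ 1) := by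
  let S := injSeq F
  have hS : S.ShortExact := injSeq_shortExact F
  haveI : Mono S.f := hS.mono_f
  let ψ : S.X₂ ⟶ S.X₂ := Injective.factorThru (φ ≫ S.f) S.f
  have hψ : S.f ≫ ψ = φ ≫ S.f := Injective.comp_factorThru _ _
  let Φ : S ⟶ S := ShortComplex.homMk φ ψ
    (cokernel.map (Injective.ι F) (Injective.ι F) φ ψ hψ) hψ.symm (cokernel.π_desc _ _ _).symm
  have hT : (S.map (pf f)).ShortExact := pf_shortExact hB hS hF
  let Ψ : S.map (pf f) ⟶ S.map (pf f) := (pf f).mapShortComplex.map Φ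
  haveI : Subsingleton (HU S.X₂ 1 (⊤ : Opens X)) := inferInstance
  haveI : Subsingleton (HU (S.map (pf f)).X₂ 1 (⊤ : Opens Y)) := subsingleton_pf_injective S.X₂ 0 ⊤
  rw [bijective_H_map_iff, bijective_H_map_iff]
  exact (bijective_hmap_iff_sections hT Ψ ⊤).trans (bijective_hmap_iff_sections hS Φ ⊤).symm

end NodeFrobLib
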