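import Groth.Agent.NodeFrobLib.Stalk
import Groth.Agent.NodeFrobLib.Local
import Groth.Agent.NodeFrobLib.Push
import Groth.Agent.KleimanLib.GenSmooth
import Groth.Agent.NormalLib.Regular
import Groth.Agent.FibDimLib.Pure
import Groth.Agent.CohTopLib.Vanishing
import Groth.Agent.CurvLib.StalkSum
import Groth.Agent.CurvLib.Euler
import Groth.Agent.DevissLib.ClosedImm
import Groth.Prelude.Def_Pi1
import Mathlib.FieldTheory.Perfect

/-!
# Frobenius on `H¹` of a nodal curve and of its normalisation
-/

set_option autoImplicit false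
universe u

open CategoryTheory CategoryTheory.Limits AlgebraicGeometry TopologicalSpace Opposite

noncomputable section

namespace NodeFrobLib

theorem pow_surjective_of_finite (k R : Type u) [Field k] [IsAlgClosed k] [CommRing R] [Algebra k R]
    [Module.Finite k R] [_root_.IsReduced R] (p : ℕ) [Fact p.Prime] [CharP k p] :
    Function.Surjective fun r : R => r ^ p := by
  intro r
  rcases subsingleton_or_nontrivial R with h | h
  · exact ⟨r, Subsingleton.elim _ _⟩
  haveI : CharP R p := charP_of_injective_algebraMap (algebraMap k R).injective p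
  have hp := (Fact.out : p.Prime)
  choose root hroot using fun c : k => IsAlgClosed.exists_pow_nat_eq c hp.pos
  let b := Module.finBasis k R
  have hsum : ∀ c : Fin (Module.finrank k R) → k,
      (∑ i, root (c i) • b i) ^ p = ∑ i, c i • b i ^ p := fun c => by
    simp only [sum_pow_char p, Algebra.smul_def, mul_pow, ← map_pow, hroot]
  have hli : LinearIndependent k fun i => b i ^ p := Fintype.linearIndependent_iff.2 fun c hc i => by
    have h1 : (∑ i, root (c i) • b i) = 0 := by
      refine IsReduced.eq_zero _ ⟨p, ?_⟩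
      rw [hsum, hc]
    rw [← hroot (c i), Fintype.linearIndependent_iff.1 b.linearIndependent _ h1 i, zero_pow hp.ne_zero]
  have htop := hli.span_eq_top_of_card_eq_finrank' (by simp)
  obtain ⟨c, hc⟩ := (Submodule.mem_span_range_iff_exists_fun k).1 (htop ▸ Submodule.mem_top : r ∈ _)
  exact ⟨∑ i, root (c i) • b i, (hsum c).trans hc⟩

variable (k : Type u) [Field k] [IsAlgClosed k] (p : ℕ) [Fact p.Prime] [CharP k p]

theorem frobNormal_stalk (C : Scheme.{u}) [C.Over (Spec (CommRingCat.of k))]
    [IsProper (C ↘ Spec (CommRingCat.of k))] (hdim : topologicalKrullDim C ≤ 1)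
    (hnod : Curv2.AtWorstNodal k C) (C' : Scheme.{u}) (π : C' ⟶ C) (hC' : Pi1.IsNormalScheme C')
    (U : C.Opens) (hU : Dense (U : Set C)) (hπU : IsIso (π ∣_ U)) (x : C) :
    FrobNormal p (C.presheaf.stalk x) := by
  haveI := CurvLib.isNoetherian k (X := C)
  haveI := hπU
  by_cases hxU : x ∈ U
  · obtain ⟨z, hz⟩ : ∃ z, (π ∣_ U) z = ⟨x, hxU⟩ :=
      (ConcreteCategory.bijective_of_isIso (π ∣_ U).base).2 ⟨x, hxU⟩
    have hiso : IsIso (π.stalkMap z.1) :=
      (MorphismProperty.isomorphisms.iff _).1 (((MorphismProperty.isomorphisms CommRingCat).arrow_mk_iso_iff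
        (morphismRestrictStalkMap π U z)).1 ((MorphismProperty.isomorphisms.iff _).2 inferInstance))
    have hzx : π z.1 = x := (morphismRestrict_base_coe π U z).symm.trans (congrArg Subtype.val hz)
    subst hzx
    let e := (asIso (π.stalkMap z.1)).commRingCatIsoToRingEquiv
    obtain ⟨h1, h2⟩ := hC' z.1
    haveI := h1
    haveI := h2
    haveI : IsDomain (C.presheaf.stalk (π z.1)) := e.toMulEquiv.isDomain _
    haveI : IsIntegrallyClosed (C.presheaf.stalk (π z.1)) := IsIntegrallyClosed.of_equiv e.symm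
    exact frobNormal_of_domain p _
  · have hng : ¬ FinPicLib.IsGen x := fun h => hxU (FinPicLib.mem_of_dense h U.isOpen hU)
    have hx : IsClosed ({x} : Set C) := by
      refine isClosed_of_closure_subset fun z hz => ?_
      exact (FinPicLib.eq_of_specializes_of_not_isGen hdim hng (specializes_iff_mem_closure.mpr hz)).symm
    rcases hnod x hx with ⟨V, hxV, hs⟩ | hn
    · haveI := KleimanLib.regular_of_smooth (V.ι ≫ (C ↘ Spec (CommRingCat.of k))) ⟨x, hxV⟩
      let A := V.toScheme.presheaf.stalk ⟨x, hxV⟩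
      haveI : IsDomain A := CommAlgDim.isDomain_of_isRegularLocalRing A
      haveI : IsIntegrallyClosed A := NormalLib.isIntegrallyClosed_of_isRegularLocalRing A
      let e : A ≃+* C.presheaf.stalk x := (V.stalkIso ⟨x, hxV⟩).commRingCatIsoToRingEquiv
      haveI : IsDomain (C.presheaf.stalk x) := e.symm.toMulEquiv.isDomain _
      haveI : IsIntegrallyClosed (C.presheaf.stalk x) := IsIntegrallyClosed.of_equiv e
      exact frobNormal_of_domain p _
    · exact frobNormal_of_isNode p hn

/-- **Frobenius is bijective on `H¹` of a nodal curve iff it is so on the normalisation.** -/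
theorem bijective_iff (C : Scheme.{u}) [C.Over (Spec (CommRingCat.of k))] [IsReduced C]
    [IsProper (C ↘ Spec (CommRingCat.of k))]
    (hdim : ∀ Z ∈ irreducibleComponents (C : Type u), topologicalKrullDim Z = 1)
    (hnod : Curv2.AtWorstNodal k C)
    (C' : Scheme.{u}) (π : C' ⟶ C) [IsFinite π] (hC' : Pi1.IsNormalScheme C')
    (U : C.Opens) (hU : Dense (U : Set C)) (hU' : Dense ((π ⁻¹ᵁ U : C'.Opens) : Set C')) (hπU : IsIso (π ∣_ U))
    (φ : Coh.toAb (Coh.structureModule C) ⟶ Coh.toAb (Coh.structureModule C))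
    (hφ : ∀ (V : C.Opens) (s : Γ(C, V)), (φ.hom.app (op V)).hom s = s ^ p)
    (φ' : Coh.toAb (Coh.structureModule C') ⟶ Coh.toAb (Coh.structureModule C'))
    (hφ' : ∀ (V : C'.Opens) (s : Γ(C', V)), (φ'.hom.app (op V)).hom s = s ^ p) :
    Function.Bijective (Sheaf.H.map φ 1) ↔ Function.Bijective (Sheaf.H.map φ' 1) := by
  haveI := CurvLib.isNoetherian k (X := C)
  haveI : IsReduced C' := by
    haveI : ∀ x : C', _root_.IsReduced (C'.presheaf.stalk x) := fun x => by
      haveI := (hC' x).1
      infer_instance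
    exact isReduced_of_isReduced_stalk _
  have hd1 : topologicalKrullDim C ≤ (1 : ℕ) :=
    FibDimLib.IsPureDim.topologicalKrullDim_le (A := C) (e := 1) hdim
  have hA := frobNormal_stalk k p C hd1 hnod C' π hC' U hU hπU
  let O : QCohLib.AbSh C.toTopCat := Coh.toAb (Coh.structureModule C)
  let O' : QCohLib.AbSh C'.toTopCat := Coh.toAb (Coh.structureModule C')
  let P : QCohLib.AbSh C.toTopCat := (QCohLib.pf π.base).obj O'
  let ι : O ⟶ P := ⟨
    { app := fun V => AddCommGrpCat.ofHom (π.app V.unop).hom.toAddMonoidHom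
      naturality := fun V W i => by
        ext s
        exact congr($(π.naturality i) s) }⟩
  let φP : P ⟶ P := (QCohLib.pf π.base).map φ'
  have hφP : ∀ (V : C.Opens) (s : Γ(C', π ⁻¹ᵁ V)), φP.hom.app (op V) s = s ^ p := fun V s => hφ' _ s
  have hcomm : φ ≫ ι = ι ≫ φP := by
    refine CategoryTheory.Sheaf.hom_ext (NatTrans.ext (funext fun V => ?_))
    ext s
    change (π.app V.unop) ((φ.hom.app V).hom s) = (φP.hom.app V).hom (π.app V.unop s)
    exact ((congrArg (π.app V.unop) (hφ V.unop s)).trans (map_pow _ _ _)).trans (hφP _ _).symm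
  haveI : Mono ι := by
    refine ⟨fun {Z} a b hab => CategoryTheory.Sheaf.hom_ext (NatTrans.ext (funext fun V => ?_))⟩
    ext z
    exact app_injective π U hU hπU V.unop (congrArg (fun w => w.hom.app V z) hab)
  let S : ShortComplex (QCohLib.AbSh C.toTopCat) := ShortComplex.mk ι (cokernel.π ι) (cokernel.condition ι)
  have hS : S.ShortExact :=
    { exact := ShortComplex.exact_of_g_is_cokernel _ (cokernelIsCokernel _)
      mono_f := inferInstanceAs (Mono ι)
      epi_g := inferInstanceAs (Epi (cokernel.π ι)) }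
  let Φ : S ⟶ S := ShortComplex.homMk φ φP (cokernel.map ι ι φ φP hcomm.symm) hcomm
    (cokernel.π_desc _ _ _).symm
  haveI : IsIso Φ.τ₃ := by
    refine isIso_τ₃ hS Φ (fun V y c hc x hx => ?_) (fun V y x hx => ?_)
    · obtain ⟨W, i, hxW, a, ha⟩ := local_inj π U hU hU' hπU (hA x) hx y c ((hφP V y).symm.trans hc)
      exact ⟨W, homOfLE i, hxW, a, ha⟩
    · obtain ⟨W, i, hxW, z, a, hza⟩ := local_surj π U hU hU' hπU (p := p) (hA x) hx y
      refine ⟨W, homOfLE i, hxW, z, a, ?_⟩
      exact (congrArg (fun r : Γ(C', π ⁻¹ᵁ W) =>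
        r - C'.presheaf.map (homOfLE (π.preimage_mono i)).op y) (hφP W z)).trans hza
  haveI : Subsingleton (QCohLib.HU S.X₁ 2 (⊤ : Opens C.toTopCat)) :=
    CohTopLib.subsingleton_HU_of_dim_le 1 hd1 _ ⊤ 2 (by omega)
  have hsurj : Function.Surjective (Φ.τ₂.hom.app (op (⊤ : Opens C.toTopCat))) := by
    letI : C'.Over (Spec (CommRingCat.of k)) := ⟨π ≫ (C ↘ Spec (CommRingCat.of k))⟩
    haveI : IsProper (C' ↘ Spec (CommRingCat.of k)) :=
      inferInstanceAs (IsProper (π ≫ (C ↘ Spec (CommRingCat.of k))))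
    letI : Algebra k Γ(C', ⊤) := (Coh.toGlobal (C' ↘ Spec (CommRingCat.of k))).toAlgebra
    haveI := CurvLib.finite_HH (k := k) (DevissLib.isCoh_structureModule C') 0
    haveI : Module.Finite k Γ(C', ⊤) :=
      Module.Finite.of_surjective
        ({ toFun := fun s => (CurvLib.hhZeroEquiv (k := k) (Coh.structureModule C') s : Γ(C', ⊤))
           map_add' := fun s t => map_add (CurvLib.hhZeroEquiv (k := k) (Coh.structureModule C')) s t
           map_smul' := fun c s =>
            ((CurvLib.hhZeroEquiv (k := k) (Coh.structureModule C')).map_smulₛₗ c s).trans rfl } :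
          Coh.HH C' (Coh.structureModule C') 0 →ₗ[k] Γ(C', ⊤))
        (CurvLib.hhZeroEquiv (k := k) (Coh.structureModule C')).surjective
    intro t
    obtain ⟨r, hr⟩ := pow_surjective_of_finite k Γ(C', ⊤) p t
    exact ⟨r, (hφP ⊤ r).trans hr⟩
  have h1 := bijective_hmap_one_iff hS Φ hsurj
  rw [← bijective_H_map_iff, ← bijective_H_map_iff] at h1
  exact h1.trans (bijective_H_map_pf_iff π.base QCohLib.isBasis_affSet O'
    (haveI : Coh.IsQCoh (Coh.structureModule C') := QCohLib.isQCoh_unit
     QCohLib.acyclicAbove_of_isAffineHom π (Coh.structureModule C')) φ')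

end NodeFrobLib
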