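import Groth.Agent.QCohLib.AbPush

/-!
# Endomorphisms of short exact sequences of sheaves and first cohomology
-/

set_option autoImplicit false
universe u
open CategoryTheory CategoryTheory.Limits TopologicalSpace Opposite CategoryTheory.Abelian

noncomputable section

namespace NodeFrobLib

open QCohLib

variable {X : TopCat.{u}}

/-- The map induced on cohomology over an open. -/
abbrev hmap {F G : AbSh X} (f : F ⟶ G) (n : ℕ) (U : Opens X) (x : HU F n U) : HU G n U :=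
  x.comp (Ext.mk₀ f) (add_zero n)

theorem bijective_H_map_iff {F G : AbSh X} (f : F ⟶ G) (n : ℕ) :
    Function.Bijective (CategoryTheory.Sheaf.H.map f n) ↔ Function.Bijective (hmap f n (⊤ : Opens X)) := by
  have h : hmap f n (⊤ : Opens X) ∘ hEquiv F n = hEquiv G n ∘ CategoryTheory.Sheaf.H.map f n :=
    funext fun x => (hEquiv_map f n x).symm
  rw [← Function.Bijective.of_comp_iff' (hEquiv G n).bijective, ← h,
    Function.Bijective.of_comp_iff _ (hEquiv F n).bijective]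

theorem hmap_hmap {F G K : AbSh X} (f : F ⟶ G) (g : G ⟶ K) (n : ℕ) (U : Opens X) (x : HU F n U) :
    hmap g n U (hmap f n U x) = hmap (f ≫ g) n U x := by
  simp only [hmap, Ext.comp_assoc_of_third_deg_zero, Ext.mk₀_comp_mk₀]

theorem hmap_sub {F G : AbSh X} (f : F ⟶ G) (n : ℕ) (U : Opens X) (x y : HU F n U) :
    hmap f n U (x - y) = hmap f n U x - hmap f n U y :=
  map_sub ((Ext.mk₀ f).postcomp (zsh U) (add_zero n)) x y

variable {S : ShortComplex (AbSh X)}

theorem exists_app_eq (hS : S.ShortExact) (V : Opens X) (y : S.X₂.obj.obj (op V))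
    (h : S.g.hom.app (op V) y = 0) : ∃ a, S.f.hom.app (op V) a = y := by
  obtain ⟨z, hz⟩ := Ext.covariant_sequence_exact₂ (zsh V) hS (h0.symm y) (by
    apply h0.injective
    rw [h0_comp, AddEquiv.apply_symm_apply, h, map_zero])
  exact ⟨h0 z, by rw [← h0_comp, hz, AddEquiv.apply_symm_apply]⟩

theorem app_map {F G : AbSh X} (f : F ⟶ G) {U V : Opens X} (i : V ⟶ U) (s : F.obj.obj (op U)) :
    f.hom.app (op V) (F.obj.map i.op s) = G.obj.map i.op (f.hom.app (op U) s) :=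
  ConcreteCategory.congr_hom (f.hom.naturality i.op) s

/-- The endomorphism of the cokernel is an isomorphism when it is one locally modulo the subsheaf. -/
theorem isIso_τ₃ (hS : S.ShortExact) (Φ : S ⟶ S)
    (hinj : ∀ (V : Opens X) (y : S.X₂.obj.obj (op V)) (c : S.X₁.obj.obj (op V)),
      Φ.τ₂.hom.app (op V) y = S.f.hom.app (op V) c → ∀ x ∈ V, ∃ (W : Opens X) (i : W ⟶ V), x ∈ W ∧
        ∃ a, S.X₂.obj.map i.op y = S.f.hom.app (op W) a)
    (hsurj : ∀ (V : Opens X) (y : S.X₂.obj.obj (op V)), ∀ x ∈ V, ∃ (W : Opens X) (i : W ⟶ V), x ∈ W ∧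
        ∃ z a, Φ.τ₂.hom.app (op W) z - S.X₂.obj.map i.op y = S.f.hom.app (op W) a) :
    IsIso Φ.τ₃ := by
  have hls := (TopCat.Presheaf.isLocallySurjective_iff S.g.hom).mp
    ((Sheaf.isLocallySurjective_iff_epi' (φ := S.g)).mpr hS.epi_g)
  have hgf : ∀ V a, S.g.hom.app (op V) (S.f.hom.app (op V) a) = 0 := fun V a => by
    exact congrArg (fun w => w.hom.app (op V) a) S.zero
  have hgΦ : ∀ V y, Φ.τ₃.hom.app (op V) (S.g.hom.app (op V) y) = S.g.hom.app (op V) (Φ.τ₂.hom.app (op V) y) :=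
    fun V y => (congrArg (fun w => w.hom.app (op V) y) Φ.comm₂₃).symm
  have key : ∀ V (q : S.X₃.obj.obj (op V)), Φ.τ₃.hom.app (op V) q = 0 → q = 0 := by
    intro V q hq
    have hloc : ∀ x : V, ∃ (W : Opens X) (i : W ⟶ V), x.1 ∈ W ∧ S.X₃.obj.map i.op q = 0 := by
      rintro ⟨x, hx⟩
      obtain ⟨V', hV', ⟨y, hy⟩, hxV'⟩ := hls V q x hx
      have h1 : S.g.hom.app (op V') (Φ.τ₂.hom.app (op V') y) = 0 := by
        refine (hgΦ V' y).symm.trans ((congrArg (Φ.τ₃.hom.app (op V')) hy).trans ?_)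
        refine (app_map Φ.τ₃ _ q).trans ?_
        rw [hq, map_zero]
      obtain ⟨c, hc⟩ := exists_app_eq hS V' _ h1
      obtain ⟨W, i, hxW, a, ha⟩ := hinj V' y c hc.symm x hxV'
      refine ⟨W, i ≫ homOfLE hV', hxW, ?_⟩
      rw [op_comp, Functor.map_comp, ConcreteCategory.comp_apply]
      refine (congrArg (S.X₃.obj.map i.op) hy.symm).trans ?_
      exact ((app_map S.g i y).symm.trans (congrArg _ ha)).trans (hgf W a)
    choose W i hxW hW using hloc
    exact TopCat.Sheaf.eq_of_locally_eq' (S.X₃ : TopCat.Sheaf AddCommGrpCat X) W V i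
      (fun x hx => Opens.mem_iSup.2 ⟨⟨x, hx⟩, hxW _⟩) q 0 fun x => (hW x).trans (map_zero _).symm
  haveI hm : Mono Φ.τ₃ := by
    refine ⟨fun {Z} a b hab => CategoryTheory.Sheaf.hom_ext (NatTrans.ext (funext fun V => ?_))⟩
    ext z
    refine sub_eq_zero.1 (key V.unop _ ?_)
    rw [map_sub, sub_eq_zero]
    exact congrArg (fun w => w.hom.app V z) hab
  haveI : Epi Φ.τ₃ := by
    refine (Sheaf.isLocallySurjective_iff_epi' (φ := Φ.τ₃)).mp
      ((TopCat.Presheaf.isLocallySurjective_iff _).mpr ?_)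
    intro V q x hx
    obtain ⟨V', hV', ⟨y, hy⟩, hxV'⟩ := hls V q x hx
    obtain ⟨W, i, hxW, z, a, ha⟩ := hsurj V' y x hxV'
    refine ⟨W, (leOfHom i).trans hV', ⟨S.g.hom.app (op W) z, ?_⟩, hxW⟩
    refine (hgΦ W z).trans ?_
    have h1 : S.g.hom.app (op W) (Φ.τ₂.hom.app (op W) z) = S.g.hom.app (op W) (S.X₂.obj.map i.op y) :=
      sub_eq_zero.1 ((map_sub _ _ _).symm.trans ((congrArg _ ha).trans (hgf W a)))
    refine h1.trans ((app_map S.g i y).trans ((congrArg (S.X₃.obj.map i.op) hy).trans ?_))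
    exact (congr($(S.X₃.obj.map_comp (homOfLE hV').op i.op) q)).symm
  exact isIso_of_mono_of_epi _

/-- The four lemma, for the first cohomology. -/
theorem bijective_hmap_one_iff (hS : S.ShortExact) (Φ : S ⟶ S) [IsIso Φ.τ₃]
    (h₀ : Function.Surjective (Φ.τ₂.hom.app (op (⊤ : Opens X))))
    [Subsingleton (HU S.X₁ 2 (⊤ : Opens X))] :
    Function.Bijective (hmap Φ.τ₁ 1 ⊤) ↔ Function.Bijective (hmap Φ.τ₂ 1 (⊤ : Opens X)) := by
  let U : Opens X := ⊤
  let δ : HU S.X₃ 0 U → HU S.X₁ 1 U := fun q => q.comp hS.extClass (zero_add 1)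
  have hδ : ∀ q, δ (hmap Φ.τ₃ 0 U q) = hmap Φ.τ₁ 1 U (δ q) := fun q => by
    simp only [δ, hmap]
    rw [Ext.comp_assoc_of_second_deg_zero, ← ShortComplex.ShortExact.extClass_naturality hS hS Φ,
      Ext.comp_assoc_of_third_deg_zero]
  have hfδ : ∀ q, hmap S.f 1 U (δ q) = 0 := fun q => by
    simp only [δ, hmap]
    rw [Ext.comp_assoc_of_third_deg_zero, hS.extClass_comp, Ext.comp_zero]
  have hδg : ∀ m, δ (hmap S.g 0 U m) = 0 := fun m => by
    simp only [δ, hmap]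
    rw [Ext.comp_assoc_of_second_deg_zero, hS.comp_extClass, Ext.comp_zero]
  have hgf : ∀ a, hmap S.g 1 U (hmap S.f 1 U a) = 0 := fun a => by
    rw [hmap_hmap, S.zero]; simp [hmap]
  have hf : ∀ n x, hmap Φ.τ₂ n U (hmap S.f n U x) = hmap S.f n U (hmap Φ.τ₁ n U x) := fun n x => by
    rw [hmap_hmap, hmap_hmap, Φ.comm₁₂]
  have hg : ∀ n x, hmap Φ.τ₃ n U (hmap S.g n U x) = hmap S.g n U (hmap Φ.τ₂ n U x) := fun n x => by
    rw [hmap_hmap, hmap_hmap, Φ.comm₂₃]
  have hχ : ∀ n, Function.Bijective (hmap Φ.τ₃ n U) := fun n => Function.bijective_iff_has_inverse.2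
    ⟨hmap (inv Φ.τ₃) n U, fun x => by rw [hmap_hmap, IsIso.hom_inv_id]; exact Ext.comp_mk₀_id x,
      fun x => by rw [hmap_hmap, IsIso.inv_hom_id]; exact Ext.comp_mk₀_id x⟩
  have h0' : Function.Surjective (hmap Φ.τ₂ 0 U) := fun x => by
    obtain ⟨t, ht⟩ := h₀ (h0 x)
    exact ⟨h0.symm t, h0.injective (by rw [h0_comp, AddEquiv.apply_symm_apply, ht])⟩
  have hz : ∀ {F G : AbSh X} (f : F ⟶ G) (n : ℕ), hmap f n U 0 = 0 := fun {F G} f n => by simp only [hmap, Ext.zero_comp]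
  constructor
  · intro h
    constructor
    · intro x x' hxx'
      rw [← sub_eq_zero] at hxx' ⊢
      rw [← hmap_sub] at hxx'
      generalize x - x' = c at hxx' ⊢
      have h1 : hmap S.g 1 U c = 0 := (hχ 1).1 (by rw [hg, hxx', hz, hz])
      obtain ⟨a, rfl⟩ := Ext.covariant_sequence_exact₂ _ hS c h1
      rw [hf] at hxx'
      obtain ⟨q, hq⟩ := Ext.covariant_sequence_exact₁ _ hS _ hxx' (zero_add 1)
      obtain ⟨q', rfl⟩ := (hχ 0).2 q
      change δ _ = _ at hq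
      rw [hδ] at hq
      change hmap S.f 1 U a = 0
      rw [← h.1 hq]; exact hfδ _
    · intro d
      obtain ⟨e, he⟩ := (hχ 1).2 (hmap S.g 1 U d)
      obtain ⟨c, hc⟩ := Ext.covariant_sequence_exact₃ _ hS e rfl (Subsingleton.elim _ _)
      change hmap S.g 1 U c = e at hc
      have h1 : hmap S.g 1 U (d - hmap Φ.τ₂ 1 U c) = 0 := by
        rw [hmap_sub, ← hg, hc, he, sub_self]
      obtain ⟨b, hb⟩ := Ext.covariant_sequence_exact₂ _ hS _ h1
      change hmap S.f 1 U b = _ at hb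
      obtain ⟨a, rfl⟩ := h.2 b
      rw [← hf, eq_sub_iff_add_eq] at hb
      exact ⟨hmap S.f 1 U a + c, by rw [← hb]; exact Ext.add_comp _ _ _ _⟩
  · intro h
    constructor
    · intro x x' hxx'
      rw [← sub_eq_zero] at hxx' ⊢
      rw [← hmap_sub] at hxx'
      generalize x - x' = a at hxx' ⊢
      have h1 : hmap S.f 1 U a = 0 := h.1 (by rw [hf, hxx', hz, hz])
      obtain ⟨q, hq⟩ := Ext.covariant_sequence_exact₁ _ hS _ h1 (zero_add 1)
      subst hq
      change hmap Φ.τ₁ 1 U (δ q) = 0 at hxx'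
      rw [← hδ] at hxx'
      obtain ⟨m, hm⟩ := Ext.covariant_sequence_exact₃ _ hS _ (zero_add 1) hxx'
      obtain ⟨m', rfl⟩ := h0' m
      change hmap S.g 0 U _ = _ at hm
      rw [← hg] at hm
      change δ q = 0
      rw [← (hχ 0).1 hm]; exact hδg _
    · intro b
      obtain ⟨c, hc⟩ := h.2 (hmap S.f 1 U b)
      have h1 : hmap S.g 1 U c = 0 := (hχ 1).1 (by rw [hg, hc, hgf, hz])
      obtain ⟨a, ha⟩ := Ext.covariant_sequence_exact₂ _ hS _ h1
      change hmap S.f 1 U a = c at ha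
      have h2 : hmap S.f 1 U (b - hmap Φ.τ₁ 1 U a) = 0 := by
        rw [hmap_sub, ← hf, ha, hc, sub_self]
      obtain ⟨q, hq⟩ := Ext.covariant_sequence_exact₁ _ hS _ h2 (zero_add 1)
      obtain ⟨q', rfl⟩ := (hχ 0).2 q
      change δ _ = _ at hq
      rw [hδ, eq_sub_iff_add_eq] at hq
      exact ⟨δ q' + a, by rw [← hq]; exact Ext.add_comp _ _ _ _⟩

end NodeFrobLib
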