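import Groth.Agent.NodeFrobLib.Alg
import Groth.Agent.NodalLib.NodeFacts
import Groth.Agent.GeomRedFibLib.CplMap

/-!
# Frobenius at the local ring of a node over an algebraically closed field
-/

set_option autoImplicit false
set_option synthInstance.maxHeartbeats 100000
universe u

open CategoryTheory AlgebraicGeometry IsLocalRing TensorProduct
open scoped nonZeroDivisors

noncomputable section

namespace NodeFrobLib

/-- The map from the local ring at a node to the ring of an ordinary double point. -/
theorem exists_node_hom {k : Type u} [Field k] [IsAlgClosed k]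
    {X : Scheme.{u}} [X.Over (Spec (CommRingCat.of k))]
    [LocallyOfFiniteType (X ↘ Spec (CommRingCat.of k))] {x : X} (hx : Curv2.IsNode k X x) :
    ∃ ι : X.presheaf.stalk x →+* NodalLib.R (AlgebraicClosure k),
      (∀ a s, ι s ∣ ι a → s ∣ a) ∧ (∀ s ∈ (X.presheaf.stalk x)⁰, ι s ∈ (NodalLib.R (AlgebraicClosure k))⁰) ∧
      Function.Surjective fun a => PowerSeries.constantCoeff (br 0 (ι a)) := by
  letI := Curv2.stalkAlgebra k X x
  let A := X.presheaf.stalk x
  let K := AlgebraicClosure k
  haveI : IsLocallyNoetherian X := LocallyOfFiniteType.isLocallyNoetherian (X ↘ Spec (CommRingCat.of k))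
  obtain ⟨P, hN, ⟨e, he⟩, hP, -, -⟩ := NodalLib.exists_node_data k hx
  haveI := hN
  let L := Localization.AtPrime P.asIdeal
  have hkK : Function.Bijective (algebraMap k K) := IsAlgClosed.algebraMap_bijective_of_isIntegral
  let ek : k ≃ₐ[k] K := AlgEquiv.ofBijective (Algebra.ofId k K) hkK
  let iR : A ≃ₐ[k] K ⊗[k] A := (Algebra.TensorProduct.lid k A).symm.trans
    (Algebra.TensorProduct.congr ek AlgEquiv.refl)
  have hiR : ∀ a, iR a = Algebra.TensorProduct.includeRight (R := k) (A := K) (B := A) a := fun a => by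
    simp [iR, ek]
  haveI : IsLocalRing (K ⊗[k] A) := iR.toRingEquiv.isLocalRing
  have hu : ∀ t : K ⊗[k] A, t ∈ P.asIdeal.primeCompl → IsUnit t := fun t ht => by
    obtain ⟨a, rfl⟩ := iR.surjective t
    refine IsUnit.map iR ?_
    by_contra hn
    refine ht ?_
    have : a ∈ maximalIdeal A := hn
    rw [← hP] at this
    rw [hiR]
    exact this
  let eL : K ⊗[k] A ≃ₐ[K ⊗[k] A] L := IsLocalization.atUnits (K ⊗[k] A) P.asIdeal.primeCompl hu
  let g : A ≃+* L := iR.toRingEquiv.trans eL.toRingEquiv
  have hg : ∀ c : k, g (algebraMap k A c) = algebraMap K L (algebraMap k K c) := fun c => by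
    change eL (iR (algebraMap k A c)) = _
    rw [AlgEquiv.commutes, IsScalarTower.algebraMap_apply K (K ⊗[k] A) L]
    exact (eL.commutes _).trans (congrArg _ (IsScalarTower.algebraMap_apply k K (K ⊗[k] A) c))
  haveI : IsLocalRing L := inferInstance
  haveI := GeomRedFibLib.faithfullyFlat_hat L
  let ι : A →+* NodalLib.R K := (e.toRingHom.comp (algebraMap L _)).comp g.toRingHom
  refine ⟨ι, fun a s h => ?_, fun s hs => ?_, fun t => ?_⟩
  · have h1 : algebraMap L (AdicCompletion (maximalIdeal L) L) (g a) ∈
        (Ideal.span {g s}).map (algebraMap L (AdicCompletion (maximalIdeal L) L)) := by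
      rw [Ideal.map_span, Set.image_singleton, Ideal.mem_span_singleton]
      have h2 := map_dvd e.symm h
      simpa [ι] using h2
    have h3 : g a ∈ Ideal.span {g s} := by
      rw [← Ideal.comap_map_eq_self_of_faithfullyFlat (B := AdicCompletion (maximalIdeal L) L) (Ideal.span {g s})]
      exact h1
    have h4 := map_dvd g.symm (Ideal.mem_span_singleton.1 h3)
    simpa using h4
  · have h1 : g s ∈ L⁰ := by
      rw [mem_nonZeroDivisors_iff_right]
      intro z hz
      obtain ⟨a, rfl⟩ := g.surjective z
      rw [← map_mul, map_eq_zero_iff _ g.injective] at hz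
      rw [mem_nonZeroDivisors_iff_right.1 hs a hz, map_zero]
    rw [mem_nonZeroDivisors_iff_right]
    intro z hz
    obtain ⟨w, rfl⟩ := e.surjective z
    have h2 := congrArg e.symm hz
    rw [map_mul, map_zero, RingEquiv.symm_apply_apply] at h2
    simp only [ι, RingHom.comp_apply, RingEquiv.toRingHom_eq_coe, RingEquiv.coe_toRingHom,
      RingEquiv.symm_apply_apply] at h2
    have := Module.Flat.isSMulRegular_of_nonZeroDivisors (M := AdicCompletion (maximalIdeal L) L) h1
    rw [this (a₁ := w) (a₂ := 0) (show g s • w = g s • (0 : AdicCompletion (maximalIdeal L) L) by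
      rw [smul_zero]; exact ((Algebra.smul_def _ _).trans (mul_comm _ _)).trans h2), map_zero]
  · obtain ⟨c, rfl⟩ := hkK.2 t
    refine ⟨algebraMap k A c, ?_⟩
    change PowerSeries.constantCoeff (br 0 (e (algebraMap L _ (g (algebraMap k A c))))) = _
    rw [hg, he, br_mk, NodeFactLib.axis_C, PowerSeries.constantCoeff_C]

theorem frobNormal_of_isNode {k : Type u} [Field k] [IsAlgClosed k] (p : ℕ) [Fact p.Prime] [CharP k p]
    {X : Scheme.{u}} [X.Over (Spec (CommRingCat.of k))]
    [LocallyOfFiniteType (X ↘ Spec (CommRingCat.of k))] {x : X} (hx : Curv2.IsNode k X x) :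
    FrobNormal p (X.presheaf.stalk x) := by
  obtain ⟨ι, h1, h2, h3⟩ := exists_node_hom hx
  haveI : CharP (AlgebraicClosure k) p :=
    charP_of_injective_algebraMap (algebraMap k (AlgebraicClosure k)).injective p
  exact frobNormal_of_node p _ ι h1 h2 h3

end NodeFrobLib
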